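import Cfsg.Agent.S3315
import Cfsg.Prelude.Def_Solvable
import Cfsg.Prelude.Def_Transfer
import Mathlib

/-!
Automorphisms of the Sylow 2-subgroup of the three-dimensional unitary group in even characteristic.
-/

set_option autoImplicit false

namespace Cfsg.Agent.Lib.SuThreeAut

open Cfsg.Agent.S1141 Cfsg.Agent.S3315

universe u

variable {F : Type u} [Field F] [Fintype F] {n : ℕ} [CharP F 2]
  (hF : Fintype.card F = (2 ^ n) ^ 2) (hn : 2 ≤ n)

local notation "q" => (2 ^ n : ℕ)

/-- The element with given parameters. -/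
def mkU {a b : F} (h : Par q a b) : U hF := (equivPar hF).symm ⟨(a, b), h⟩

omit hn in
theorem pa_mkU {a b : F} (h : Par q a b) : pa hF (mkU hF h) = a := by
  simp [pa, mkU]

omit hn in
theorem pb_mkU {a b : F} (h : Par q a b) : pb hF (mkU hF h) = b := by
  simp [pb, mkU]

omit hn in
theorem par_pab (g : U hF) : Par q (pa hF g) (pb hF g) := (equivPar hF g).2

omit hn in
theorem pa_one : pa hF (1 : U hF) = 0 := by
  have h := pa_mul hF 1 1
  rw [mul_one] at h
  exact (add_left_cancel (a := pa hF 1) (b := 0) (by rw [add_zero]; exact h)).symm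

omit hn in
theorem commute_iff (g g' : U hF) :
    g * g' = g' * g ↔ pa hF g * pa hF g' ^ q = pa hF g' * pa hF g ^ q := by
  constructor
  · intro h
    have h2 := congrArg (pb hF) h
    rw [pb_mul, pb_mul, add_comm (pb hF g') (pb hF g)] at h2
    exact add_left_cancel h2
  · intro h
    apply ext_pab hF
    · rw [pa_mul, pa_mul, add_comm]
    · rw [pb_mul, pb_mul, h, add_comm (pb hF g') (pb hF g)]

include hn in
theorem pa_map_zero (ψ : MulAut (U hF)) {g : U hF} (hg : pa hF g = 0) : pa hF (ψ g) = 0 := by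
  rw [pa_eq_zero hF hn] at hg ⊢
  rw [Subgroup.mem_center_iff] at hg ⊢
  intro y
  obtain ⟨y, rfl⟩ := ψ.surjective y
  rw [← map_mul, hg, map_mul]

include hn in
theorem pa_map_eq (ψ : MulAut (U hF)) {g g' : U hF} (e : pa hF g = pa hF g') :
    pa hF (ψ g) = pa hF (ψ g') := by
  have h1 : pa hF (g⁻¹ * g') = 0 := by
    have h2 : pa hF g + pa hF (g⁻¹ * g') = pa hF g + 0 := by
      rw [← pa_mul, mul_inv_cancel_left, add_zero, e]
    exact add_left_cancel h2
  have h3 : pa hF (ψ g') = pa hF (ψ g) + pa hF (ψ (g⁻¹ * g')) := by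
    rw [← pa_mul, ← map_mul, mul_inv_cancel_left]
  rw [h3, pa_map_zero hF hn ψ h1, add_zero]

/-- A lift of a field element. -/
noncomputable def lft (x : F) : U hF := (pa_surj hF x).choose

omit hn in
theorem pa_lft (x : F) : pa hF (lft hF x) = x := (pa_surj hF x).choose_spec

/-- The map induced on the first coordinate. -/
noncomputable def sig (ψ : MulAut (U hF)) (x : F) : F := pa hF (ψ (lft hF x))

include hn in
theorem sig_pa (ψ : MulAut (U hF)) (g : U hF) : sig hF ψ (pa hF g) = pa hF (ψ g) :=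
  pa_map_eq hF hn ψ (pa_lft hF _)

include hn in
theorem sig_mul (ψ φ : MulAut (U hF)) (x : F) : sig hF (ψ * φ) x = sig hF ψ (sig hF φ x) :=
  (sig_pa hF hn ψ (φ (lft hF x))).symm

omit hn in
theorem sig_one (x : F) : sig hF 1 x = x := pa_lft hF x

/-- The action on the first coordinate. -/
noncomputable def act : MulAut (U hF) →* Equiv.Perm F where
  toFun ψ :=
    { toFun := sig hF ψ
      invFun := sig hF ψ⁻¹
      left_inv := fun x => by rw [← sig_mul hF hn, inv_mul_cancel, sig_one]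
      right_inv := fun x => by rw [← sig_mul hF hn, mul_inv_cancel, sig_one] }
  map_one' := Equiv.ext (sig_one hF)
  map_mul' ψ φ := Equiv.ext (sig_mul hF hn ψ φ)

theorem act_apply (ψ : MulAut (U hF)) (x : F) : act hF hn ψ x = sig hF ψ x := rfl

/-- The additive structure and the commutation relation. -/
theorem sig_add (ψ : MulAut (U hF)) (hn : 2 ≤ n) (x y : F) :
    sig hF ψ (x + y) = sig hF ψ x + sig hF ψ y := by
  have h := sig_pa hF hn ψ (lft hF x * lft hF y)
  rw [pa_mul, pa_lft, pa_lft, map_mul, pa_mul] at h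
  exact h

include hn in
theorem sig_comm_iff (ψ : MulAut (U hF)) (x y : F) :
    sig hF ψ x * sig hF ψ y ^ q = sig hF ψ y * sig hF ψ x ^ q ↔ x * y ^ q = y * x ^ q := by
  unfold sig
  rw [← commute_iff, ← map_mul, ← map_mul, ψ.injective.eq_iff, commute_iff, pa_lft, pa_lft]

omit hn in
theorem sq_par (g : U hF) : pa hF (g * g) = 0 ∧ pb hF (g * g) = pa hF g * pa hF g ^ q := by
  rw [pa_mul, pb_mul, CharTwo.add_self_eq_zero, CharTwo.add_self_eq_zero, zero_add]
  exact ⟨rfl, rfl⟩

include hn in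
theorem sig_norm (ψ : MulAut (U hF)) {x y : F} (h : x * x ^ q = y * y ^ q) :
    sig hF ψ x * sig hF ψ x ^ q = sig hF ψ y * sig hF ψ y ^ q := by
  have e : lft hF x * lft hF x = lft hF y * lft hF y := by
    apply ext_pab hF
    · rw [(sq_par hF _).1, (sq_par hF _).1]
    · rw [(sq_par hF _).2, (sq_par hF _).2, pa_lft, pa_lft, h]
  have e' := congrArg (fun g => pb hF (ψ g)) e
  simp only [map_mul, (sq_par hF _).2] at e'
  exact e'

omit hn in
theorem exists_sqrt_fixed {c : F} (hc : c ^ q = c) : ∃ k : F, k ^ q = k ∧ k ^ 2 = c := by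
  have hinj : Function.Injective fun x : F => x ^ 2 := fun x y h => by
    have h1 : (x + y) ^ 2 = 0 := by
      rw [CharTwo.add_sq, show x ^ 2 = y ^ 2 from h, CharTwo.add_self_eq_zero]
    exact CharTwo.add_eq_zero.mp (pow_eq_zero_iff two_ne_zero |>.mp h1)
  obtain ⟨k, hk⟩ := (Finite.injective_iff_surjective.mp hinj) c
  refine ⟨k, hinj ?_, hk⟩
  show (k ^ q) ^ 2 = k ^ 2
  rw [← pow_mul, mul_comm, pow_mul, show k ^ 2 = c from hk, hc]

include hn in
theorem one_lt_q : 1 < q := Nat.one_lt_two_pow (by omega)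

include hF hn in
theorem exists_not_fixed : ∃ x : F, x ^ q ≠ x := by
  by_contra h
  push Not at h
  have h1 : (trQ hF).ker = ⊤ := eq_top_iff.mpr fun x _ => by
    show x ^ q + x = 0
    rw [h x, CharTwo.add_self_eq_zero]
  have h2 := (card_ker_trQ hF).1
  rw [h1, AddSubgroup.card_top, Nat.card_eq_fintype_card, hF] at h2
  have := one_lt_q hn
  nlinarith

include hn in
/-- The action on the first coordinate is semilinear. -/
theorem act_eq_semilinear (ψ : MulAut (U hF)) :
    ∃ (a : Fˣ) (s : F ≃+* F), ∀ x, act hF hn ψ x = a * s x := by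
  classical
  set σ := sig hF ψ with hσdef
  have hadd : ∀ x y, σ (x + y) = σ x + σ y := sig_add hF ψ hn
  have hinjσ : Function.Injective σ := (act hF hn ψ).injective
  have h0 : σ 0 = 0 := by
    have := hadd 0 0
    rw [add_zero] at this
    have h := this
    rw [CharTwo.add_self_eq_zero] at h
    exact h
  have ha : σ 1 ≠ 0 := fun h => one_ne_zero (hinjσ (h.trans h0.symm))
  set a := σ 1 with hadef
  have hq0 : q ≠ 0 := by positivity
  have haq : a ^ q ≠ 0 := pow_ne_zero _ ha
  let ρ : F → F := fun x => σ x / a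
  have hρadd : ∀ x y, ρ (x + y) = ρ x + ρ y := fun x y => by simp only [ρ, hadd, add_div]
  have hρ1 : ρ 1 = 1 := div_self ha
  have hρinj : Function.Injective ρ := fun x y h => hinjσ (div_left_inj' ha |>.mp h)
  have hρ0 : ρ 0 = 0 := by simp [ρ, h0]
  have hρcomm : ∀ x y, ρ x * ρ y ^ q = ρ y * ρ x ^ q ↔ x * y ^ q = y * x ^ q := by
    intro x y
    rw [← sig_comm_iff hF hn ψ x y]
    simp only [ρ, div_pow, div_mul_div_comm]
    rw [mul_comm a (a ^ q), div_left_inj' (mul_ne_zero haq ha)]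
  have hρfix : ∀ x, ρ x ^ q = ρ x ↔ x ^ q = x := by
    intro x
    have := hρcomm 1 x
    rwa [hρ1, one_pow, mul_one, one_mul, mul_one, one_mul] at this
  have hρnorm : ∀ {x y : F}, x * x ^ q = y * y ^ q → ρ x * ρ x ^ q = ρ y * ρ y ^ q := by
    intro x y h
    simp only [ρ, div_pow, div_mul_div_comm]
    rw [sig_norm hF hn ψ h]
  have hline : ∀ k x, k ^ q = k → x ^ q ≠ x → ρ (k * x) = ρ k * ρ x := by
    intro k x hk hx
    have hv : ρ x ^ q ≠ ρ x := fun h => hx ((hρfix x).mp h)
    have hv0 : ρ x ≠ 0 := fun h => hv (by rw [h, zero_pow hq0])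
    have h1 : ρ (k * x) * ρ x ^ q = ρ x * ρ (k * x) ^ q := (hρcomm _ _).mpr (by
      rw [mul_pow, hk]; ring)
    have h2 := (hρcomm (k + k * x) (1 + x)).mpr (by
      rw [add_pow_q, add_pow_q, mul_pow, hk, one_pow]; ring)
    rw [hρadd, hρadd, hρ1, add_pow_q, add_pow_q, (hρfix k).mpr hk, one_pow] at h2
    set u := ρ (k * x)
    set v := ρ x
    set w := ρ k
    clear_value u v w
    set g := u / v with hg
    have hu : u = g * v := (div_mul_cancel₀ u hv0).symm
    have hgq : g ^ q = g := by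
      rw [hg, div_pow, div_eq_div_iff (pow_ne_zero _ hv0) hv0]
      linear_combination -h1
    clear_value g
    have h3 : (w + g) * (v + v ^ q) = 0 := by
      have hu' : u ^ q = g * v ^ q := by rw [hu, mul_pow, hgq]
      rw [hu', hu] at h2
      linear_combination h2 + (v * w + v ^ q * g) * CharTwo.two_eq_zero (R := F)
    rcases mul_eq_zero.mp h3 with h | h
    · rw [hu, ← CharTwo.add_eq_zero.mp h]
    · exact absurd (CharTwo.add_eq_zero.mp h).symm hv
  obtain ⟨x₀, hx₀⟩ := exists_not_fixed hF hn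
  have hv₀ : ρ x₀ ≠ 0 := fun h => hx₀ (by
    rw [hρinj (h.trans hρ0.symm), zero_pow hq0])
  have hsmul : ∀ k l, k ^ q = k → l ^ q = l → ρ (k * l) = ρ k * ρ l := by
    intro k l hk hl
    by_cases hl0 : l = 0
    · rw [hl0, mul_zero, hρ0, mul_zero]
    have hlx : (l * x₀) ^ q ≠ l * x₀ := fun h => hx₀ (by
      rw [mul_pow, hl] at h
      exact mul_left_cancel₀ hl0 h)
    have h1 := hline (k * l) x₀ (by rw [mul_pow, hk, hl]) hx₀
    rw [mul_assoc, hline k _ hk hlx, hline l x₀ hl hx₀, ← mul_assoc] at h1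
    exact (mul_right_cancel₀ hv₀ h1).symm
  have hsemi : ∀ k x, k ^ q = k → ρ (k * x) = ρ k * ρ x := by
    intro k x hk
    by_cases hx : x ^ q = x
    · exact hsmul k x hk hx
    · exact hline k x hk hx
  have hN : ∀ x, ρ (x * x ^ q) = ρ x * ρ x ^ q := by
    intro x
    obtain ⟨k, hkq, hk⟩ := exists_sqrt_fixed (n := n) (c := x * x ^ q)
      (by rw [mul_pow, pow_pow_q hF, mul_comm])
    have h1 : x * x ^ q = k * k ^ q := by rw [hkq, ← sq, hk]
    rw [hρnorm h1, h1, (hρfix k).mpr hkq, hkq, hsmul k k hkq hkq]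
  have hT : ∀ x, ρ (x + x ^ q) = ρ x + ρ x ^ q := by
    intro x
    have h1 := hN (1 + x)
    rw [hρadd 1 x, hρ1] at h1
    rw [show (1 + x) * (1 + x) ^ q = 1 + x * x ^ q + (x + x ^ q) by rw [add_pow_q, one_pow]; ring,
      hρadd, hρadd 1, hρ1, hN] at h1
    rw [show (1 + ρ x) * (1 + ρ x) ^ q = 1 + ρ x * ρ x ^ q + (ρ x + ρ x ^ q) by
      rw [add_pow_q, one_pow]; ring] at h1
    exact add_left_cancel h1
  have hsq : ∀ x, ρ (x * x) = ρ x * ρ x := by
    intro x
    have hfix : (x + x ^ q) ^ q = x + x ^ q := by rw [add_pow_q, pow_pow_q hF, add_comm]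
    rw [show x * x = (x + x ^ q) * x + x * x ^ q by
      linear_combination (-(x * x ^ q)) * CharTwo.two_eq_zero (R := F),
      hρadd, hsemi _ x hfix, hT, hN]
    linear_combination (ρ x * ρ x ^ q) * CharTwo.two_eq_zero (R := F)
  have hd : x₀ + x₀ ^ q ≠ 0 := fun h => hx₀ (CharTwo.add_eq_zero.mp h).symm
  have hbasis : ∀ y, ∃ a b : F, a ^ q = a ∧ b ^ q = b ∧ y = a + b * x₀ := by
    intro y
    set b := (y + y ^ q) / (x₀ + x₀ ^ q) with hb
    have hbq : b ^ q = b := by
      rw [hb, div_pow, add_pow_q, add_pow_q, pow_pow_q hF, pow_pow_q hF, add_comm, add_comm (x₀ ^ q)]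
    refine ⟨y + b * x₀, b, ?_, hbq, by linear_combination (-(b * x₀)) * CharTwo.two_eq_zero (R := F)⟩
    have e : b * (x₀ + x₀ ^ q) = y + y ^ q := div_mul_cancel₀ _ hd
    rw [add_pow_q, mul_pow, hbq]
    linear_combination e + (y ^ q - b * x₀) * CharTwo.two_eq_zero (R := F)
  have hmul : ∀ y y', ρ (y * y') = ρ y * ρ y' := by
    intro y y'
    obtain ⟨c, d, hc, hd', rfl⟩ := hbasis y
    obtain ⟨c', d', hc', hd'', rfl⟩ := hbasis y'
    rw [show (c + d * x₀) * (c' + d' * x₀) =
      c * c' + (c * d' + d * c') * x₀ + d * d' * (x₀ * x₀) by ring, hρadd, hρadd,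
      hsemi _ x₀ (by rw [add_pow_q, mul_pow, mul_pow, hc, hd', hc', hd'']),
      hsemi _ _ (show (d * d') ^ q = d * d' by rw [mul_pow, hd', hd'']),
      hρadd (c * d'), hsq, hsmul c c' hc hc', hsmul c d' hc hd'', hsmul d c' hd' hc',
      hsmul d d' hd' hd'', hρadd c, hρadd c', hsemi d x₀ hd', hsemi d' x₀ hd'']
    ring
  let s : F →+* F :=
    { toFun := ρ, map_one' := hρ1, map_mul' := hmul, map_zero' := hρ0, map_add' := hρadd }
  refine ⟨Units.mk0 a ha, RingEquiv.ofBijective s
    ⟨hρinj, Finite.injective_iff_surjective.mp hρinj⟩, fun x => ?_⟩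
  show σ x = a * (σ x / a)
  rw [mul_div_cancel₀ _ ha]

include hF in
omit hn in
theorem par_semi {x b : F} (h : Par q x b) (a : F) (s : F ≃+* F) :
    Par q (a * s x) (a * a ^ q * s b) := by
  have e : b ^ q + b = x ^ q * x := h
  have e' := congrArg s e
  rw [map_add, map_mul, map_pow, map_pow] at e'
  show (a * a ^ q * s b) ^ q + a * a ^ q * s b = (a * s x) ^ q * (a * s x)
  rw [mul_pow, mul_pow, pow_pow_q hF, mul_pow]
  linear_combination (a * a ^ q) * e'

/-- The automorphism with given semilinear action. -/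
def semiHom (a : F) (s : F ≃+* F) : U hF →* U hF where
  toFun g := mkU hF (par_semi hF (par_pab hF g) a s)
  map_one' := by
    have h0 : pa hF (1 : U hF) = 0 := pa_one hF
    have h1 : pb hF (1 : U hF) = 0 := by
      have h := pb_mul hF 1 1
      rw [mul_one, h0, zero_mul, add_zero, CharTwo.add_self_eq_zero] at h
      exact h
    apply ext_pab hF
    · rw [pa_mkU, h0, map_zero, mul_zero]
    · rw [pb_mkU, h1, map_zero, mul_zero]
  map_mul' g g' := by
    apply ext_pab hF
    · rw [pa_mkU, pa_mul, pa_mul, pa_mkU, pa_mkU, map_add, mul_add]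
    · rw [pb_mkU, pb_mul, pb_mul, pb_mkU, pb_mkU, pa_mkU, pa_mkU, map_add, map_add, map_mul,
        map_pow, mul_pow]
      ring

omit hn in
theorem semiHom_injective {a : F} (ha : a ≠ 0) (s : F ≃+* F) :
    Function.Injective (semiHom hF a s) := by
  intro g g' h
  have hA := congrArg (pa hF) h
  have hB := congrArg (pb hF) h
  simp only [semiHom, MonoidHom.coe_mk, OneHom.coe_mk, pa_mkU, pb_mkU] at hA hB
  exact ext_pab hF (s.injective (mul_left_cancel₀ ha hA))
    (s.injective (mul_left_cancel₀ (mul_ne_zero ha (pow_ne_zero _ ha)) hB))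

/-- The semilinear maps. -/
def semiPerm (p : Fˣ × (F ≃+* F)) : Equiv.Perm F :=
  p.2.toEquiv.trans (Equiv.mulLeft₀ (p.1 : F) p.1.ne_zero)

omit [Fintype F] [CharP F 2] hn in
theorem semiPerm_apply (p : Fˣ × (F ≃+* F)) (x : F) : semiPerm p x = p.1 * p.2 x := rfl

omit [Fintype F] [CharP F 2] hn in
theorem semiPerm_injective : Function.Injective (semiPerm (F := F)) := by
  rintro ⟨a, s⟩ ⟨b, t⟩ h
  have h1 := Equiv.congr_fun h 1
  simp only [semiPerm_apply, map_one, mul_one] at h1
  have hab : a = b := Units.ext h1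
  subst hab
  refine Prod.ext rfl (RingEquiv.ext fun x => ?_)
  have h2 := Equiv.congr_fun h x
  simp only [semiPerm_apply] at h2
  exact mul_left_cancel₀ a.ne_zero h2

include hn in
theorem range_act : Set.range (act hF hn) = Set.range (semiPerm (F := F)) := by
  apply Set.Subset.antisymm
  · rintro _ ⟨ψ, rfl⟩
    obtain ⟨a, s, h⟩ := act_eq_semilinear hF hn ψ
    exact ⟨(a, s), Equiv.ext fun x => (h x).symm⟩
  · rintro _ ⟨⟨a, s⟩, rfl⟩
    have hbij : Function.Bijective (semiHom hF (a : F) s) :=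
      ⟨semiHom_injective hF a.ne_zero s,
        Finite.injective_iff_surjective.mp (semiHom_injective hF a.ne_zero s)⟩
    refine ⟨MulEquiv.ofBijective (semiHom hF (a : F) s) hbij, Equiv.ext fun x => ?_⟩
    show pa hF (semiHom hF (a : F) s (lft hF x)) = _
    simp only [semiHom, MonoidHom.coe_mk, OneHom.coe_mk, pa_mkU, pa_lft]
    rfl

end Cfsg.Agent.Lib.SuThreeAut
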