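import Cfsg.Agent.Lib.SuThreeAut.Basic

/-!
The order and the 2-core of the automorphism group of the Sylow 2-subgroup of the three-dimensional unitary group.
-/

set_option autoImplicit false

namespace Cfsg.Agent.Lib.SuThreeAut

open Cfsg.Agent.S1141 Cfsg.Agent.S3315

universe u

variable {F : Type u} [Field F] [Fintype F] {n : ℕ} [CharP F 2]
  (hF : Fintype.card F = (2 ^ n) ^ 2) (hn : 2 ≤ n)

local notation "q" => (2 ^ n : ℕ)

include hn in
theorem mem_ker_iff (ψ : MulAut (U hF)) :
    ψ ∈ (act hF hn).ker ↔ ∀ g, pa hF (ψ g) = pa hF g := by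
  constructor
  · intro h g
    have h1 := Equiv.congr_fun (MonoidHom.mem_ker.mp h) (pa hF g)
    rw [act_apply, sig_pa hF hn] at h1
    exact h1
  · intro h
    refine MonoidHom.mem_ker.mpr (Equiv.ext fun x => ?_)
    rw [act_apply]
    show pa hF (ψ (lft hF x)) = x
    rw [h, pa_lft]

/-- The displacement of the second coordinate. -/
noncomputable def disp (ψ : MulAut (U hF)) (x : F) : F :=
  pb hF (ψ (lft hF x)) + pb hF (lft hF x)

include hn in
theorem disp_pa {ψ : MulAut (U hF)} (h : ψ ∈ (act hF hn).ker) (g : U hF) :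
    pb hF (ψ g) = pb hF g + disp hF ψ (pa hF g) := by
  have hk := (mem_ker_iff hF hn ψ).mp h
  -- central elements are fixed
  have hz : ∀ c, pa hF c = 0 → ψ c = c := by
    intro c hc
    obtain ⟨k, hkq, hks⟩ := exists_sqrt_fixed (n := n) (pb_fixed hF hc)
    have e : lft hF k * lft hF k = c := by
      apply ext_pab hF
      · rw [(sq_par hF _).1, hc]
      · rw [(sq_par hF _).2, pa_lft, hkq, ← hks, sq]
    rw [← e, map_mul]
    apply ext_pab hF
    · rw [(sq_par hF _).1, (sq_par hF _).1]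
    · rw [(sq_par hF _).2, (sq_par hF _).2, hk]
  set l := lft hF (pa hF g) with hl
  have hpl : pa hF l = pa hF g := pa_lft hF _
  have hc : pa hF (l⁻¹ * g) = 0 := by
    have h2 : pa hF l + pa hF (l⁻¹ * g) = pa hF l + 0 := by
      rw [← pa_mul, mul_inv_cancel_left, add_zero, hpl]
    exact add_left_cancel h2
  have e1 : pb hF g = pb hF l + pb hF (l⁻¹ * g) := by
    have := pb_mul hF l (l⁻¹ * g)
    rw [mul_inv_cancel_left, hc, zero_pow (by positivity), mul_zero, add_zero] at this
    exact this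
  have e2 : pb hF (ψ g) = pb hF (ψ l) + pb hF (l⁻¹ * g) := by
    have := pb_mul hF (ψ l) (ψ (l⁻¹ * g))
    rw [← map_mul, mul_inv_cancel_left, hz _ hc, hc, zero_pow (by positivity), mul_zero, add_zero] at this
    exact this
  unfold disp
  rw [← hl, e1, e2]
  linear_combination (-(pb hF l)) * CharTwo.two_eq_zero (R := F)

include hn in
theorem disp_fixed {ψ : MulAut (U hF)} (h : ψ ∈ (act hF hn).ker) (x : F) :
    disp hF ψ x ∈ (trQ hF).ker := by
  have h1 : (pb hF (ψ (lft hF x))) ^ q + pb hF (ψ (lft hF x)) = _ := par_pab hF (ψ (lft hF x))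
  have h2 : (pb hF (lft hF x)) ^ q + pb hF (lft hF x) = _ := par_pab hF (lft hF x)
  rw [(mem_ker_iff hF hn ψ).mp h] at h1
  show disp hF ψ x ^ q + disp hF ψ x = 0
  unfold disp
  rw [add_pow_q]
  linear_combination h1 + h2 +
    (pa hF (lft hF x) ^ q * pa hF (lft hF x)) * CharTwo.two_eq_zero (R := F)

include hn in
theorem disp_add {ψ : MulAut (U hF)} (h : ψ ∈ (act hF hn).ker) (x y : F) :
    disp hF ψ (x + y) = disp hF ψ x + disp hF ψ y := by
  have hk := (mem_ker_iff hF hn ψ).mp h
  have h1 := disp_pa hF hn h (lft hF x * lft hF y)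
  rw [map_mul, pb_mul, pb_mul, hk, hk, disp_pa hF hn h, disp_pa hF hn h, pa_mul, pa_lft, pa_lft] at h1
  linear_combination -h1

/-- The automorphism with given displacement. -/
def dispHom (f : F →+ ↥(trQ hF).ker) : U hF →* U hF where
  toFun g := mkU hF (a := pa hF g) (b := pb hF g + f (pa hF g)) (by
    have h1 : (pb hF g) ^ q + pb hF g = _ := par_pab hF g
    have h2 : (f (pa hF g) : F) ^ q + f (pa hF g) = 0 := (f (pa hF g)).2
    show (pb hF g + f (pa hF g)) ^ q + (pb hF g + f (pa hF g)) = _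
    rw [add_pow_q]
    linear_combination h1 + h2)
  map_one' := by
    apply ext_pab hF
    · rw [pa_mkU]
    · rw [pb_mkU, pa_one, map_zero, ZeroMemClass.coe_zero, add_zero]
  map_mul' g g' := by
    apply ext_pab hF
    · simp only [pa_mul, pa_mkU]
    · simp only [pb_mul, pa_mkU, pb_mkU, pa_mul, map_add, AddSubgroup.coe_add]
      ring

include hn in
theorem card_ker : Nat.card (act hF hn).ker = Nat.card (F →+ ↥(trQ hF).ker) := by
  let D : (act hF hn).ker → (F →+ ↥(trQ hF).ker) := fun ψ =>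
    AddMonoidHom.mk' (fun x => ⟨disp hF ψ.1 x, disp_fixed hF hn ψ.2 x⟩)
      (fun x y => Subtype.ext (disp_add hF hn ψ.2 x y))
  refine Nat.card_congr (Equiv.ofBijective D ⟨?_, ?_⟩)
  · rintro ⟨ψ, hψ⟩ ⟨φ, hφ⟩ h
    apply Subtype.ext
    refine MulEquiv.ext fun g => ext_pab hF ?_ ?_
    · rw [(mem_ker_iff hF hn ψ).mp hψ, (mem_ker_iff hF hn φ).mp hφ]
    · have h1 := congrArg (fun f : F →+ ↥(trQ hF).ker => (f (pa hF g) : F)) h
      rw [disp_pa hF hn hψ, disp_pa hF hn hφ]
      exact congrArg (pb hF g + ·) h1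
  · intro f
    have hinj : Function.Injective (dispHom hF f) := by
      intro g g' h
      have hA := congrArg (pa hF) h
      have hB := congrArg (pb hF) h
      simp only [dispHom, MonoidHom.coe_mk, OneHom.coe_mk, pa_mkU, pb_mkU] at hA hB
      rw [hA] at hB
      exact ext_pab hF hA (add_right_cancel hB)
    let ψ := MulEquiv.ofBijective (dispHom hF f) ⟨hinj, Finite.injective_iff_surjective.mp hinj⟩
    have hψ : ψ ∈ (act hF hn).ker := (mem_ker_iff hF hn ψ).mpr fun g => by
      show pa hF (dispHom hF f g) = _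
      simp only [dispHom, MonoidHom.coe_mk, OneHom.coe_mk, pa_mkU]
    refine ⟨⟨ψ, hψ⟩, AddMonoidHom.ext fun x => Subtype.ext ?_⟩
    show pb hF (dispHom hF f (lft hF x)) + pb hF (lft hF x) = _
    simp only [dispHom, MonoidHom.coe_mk, OneHom.coe_mk, pb_mkU, pa_lft]
    linear_combination (pb hF (lft hF x)) * CharTwo.two_eq_zero (R := F)

include hn in
theorem ker_elementary :
    (∀ ψ ∈ (act hF hn).ker, ∀ φ ∈ (act hF hn).ker, ψ * φ = φ * ψ) ∧
      ∀ ψ ∈ (act hF hn).ker, ψ ^ 2 = 1 := by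
  have hcomp : ∀ ψ ∈ (act hF hn).ker, ∀ φ ∈ (act hF hn).ker, ∀ g,
      pa hF ((ψ * φ) g) = pa hF g ∧
        pb hF ((ψ * φ) g) = pb hF g + disp hF φ (pa hF g) + disp hF ψ (pa hF g) := by
    intro ψ hψ φ hφ g
    have h1 := (mem_ker_iff hF hn ψ).mp hψ
    have h2 := (mem_ker_iff hF hn φ).mp hφ
    refine ⟨by rw [MulAut.mul_apply, h1, h2], ?_⟩
    rw [MulAut.mul_apply, disp_pa hF hn hψ, h2, disp_pa hF hn hφ]
  constructor
  · intro ψ hψ φ hφ
    refine MulEquiv.ext fun g => ext_pab hF ?_ ?_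
    · rw [(hcomp ψ hψ φ hφ g).1, (hcomp φ hφ ψ hψ g).1]
    · rw [(hcomp ψ hψ φ hφ g).2, (hcomp φ hφ ψ hψ g).2]
      ring
  · intro ψ hψ
    refine MulEquiv.ext fun g => ext_pab hF ?_ ?_
    · rw [sq, (hcomp ψ hψ ψ hψ g).1]; rfl
    · rw [sq, (hcomp ψ hψ ψ hψ g).2, MulAut.one_apply, add_assoc, CharTwo.add_self_eq_zero, add_zero]

omit hn in
theorem card_addHom : Nat.card (F →+ ↥(trQ hF).ker) = 2 ^ (2 * n ^ 2) := by
  haveI : Fact (Nat.Prime 2) := ⟨Nat.prime_two⟩
  letI := ZMod.algebra F 2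
  let W : Submodule (ZMod 2) F := AddSubgroup.toZModSubmodule 2 (trQ hF).ker
  have h1 : Nat.card (F →+ ↥(trQ hF).ker) = Nat.card (F →ₗ[ZMod 2] ↥W) :=
    Nat.card_congr
      { toFun := fun f => (AddMonoidHom.mk' (fun x => (⟨(f x : F), (f x).2⟩ : W))
          (fun x y => Subtype.ext (by simp))).toZModLinearMap 2
        invFun := fun f => AddMonoidHom.mk' (fun x => ⟨(f x : F), (f x).2⟩)
          (fun x y => Subtype.ext (by simp))
        left_inv := fun f => AddMonoidHom.ext fun x => rfl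
        right_inv := fun f => LinearMap.ext fun x => rfl }
  have h2 : Module.finrank (ZMod 2) F = 2 * n := by
    have h := Module.natCard_eq_pow_finrank (K := ZMod 2) (V := F)
    rw [Nat.card_eq_fintype_card, Nat.card_zmod, hF, ← pow_mul, mul_comm] at h
    exact (Nat.pow_right_injective le_rfl h).symm
  have h3 : Module.finrank (ZMod 2) W = n := by
    have h := Module.natCard_eq_pow_finrank (K := ZMod 2) (V := W)
    rw [show Nat.card W = Nat.card (trQ hF).ker from rfl, (card_ker_trQ hF).1, Nat.card_zmod] at h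
    exact (Nat.pow_right_injective le_rfl h).symm
  rw [h1, Module.natCard_eq_pow_finrank (K := ZMod 2), Nat.card_zmod, Module.finrank_linearMap, h2, h3]
  ring

omit hn in
theorem card_fieldAut (hF' : Fintype.card F = (2 ^ n) ^ 2) : Nat.card (F ≃+* F) = 2 * n := by
  haveI : Fact (Nat.Prime 2) := ⟨Nat.prime_two⟩
  letI := ZMod.algebra F 2
  let e : (F ≃ₐ[ZMod 2] F) ≃ (F ≃+* F) :=
    { toFun := fun σ => σ.toRingEquiv
      invFun := fun σ => AlgEquiv.ofRingEquiv (f := σ) fun x => by
        rw [show σ (algebraMap (ZMod 2) F x) = σ.toRingHom.comp (algebraMap (ZMod 2) F) x from rfl,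
          RingHom.ext_zmod (σ.toRingHom.comp (algebraMap (ZMod 2) F)) (algebraMap (ZMod 2) F)]
      left_inv := fun σ => AlgEquiv.ext fun _ => rfl
      right_inv := fun σ => RingEquiv.ext fun _ => rfl }
  rw [← Nat.card_congr e, IsGalois.card_aut_eq_finrank]
  have h := Module.natCard_eq_pow_finrank (K := ZMod 2) (V := F)
  rw [Nat.card_eq_fintype_card, Nat.card_zmod, hF', ← pow_mul, mul_comm] at h
  exact (Nat.pow_right_injective le_rfl h).symm

include hn in
theorem card_range : Nat.card (act hF hn).range = 2 * n * ((2 ^ n) ^ 2 - 1) := by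
  have h1 : Nat.card (act hF hn).range = Nat.card (Set.range (semiPerm (F := F))) :=
    Nat.card_congr (Equiv.setCongr (by rw [MonoidHom.coe_range, range_act hF hn]))
  rw [h1, Nat.card_range_of_injective semiPerm_injective, Nat.card_prod, card_fieldAut hF,
    Nat.card_units, Nat.card_eq_fintype_card, hF, mul_comm]

include hn in
/-- The structure of the automorphism group, up to isomorphism. -/
theorem structure_of_equiv {A : Type*} [Group A] (φ : A ≃* MulAut (U hF)) :
    Cfsg.IsElementaryAbelian 2 (Cfsg.pCore 2 A) ∧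
      Nat.card ↥(Cfsg.pCore 2 A) = 2 ^ (2 * n ^ 2) ∧
      Nat.card A = 2 ^ (2 * n ^ 2) * (2 * n * ((2 ^ n) ^ 2 - 1)) := by
  haveI : Fact (Nat.Prime 2) := ⟨Nat.prime_two⟩
  haveI : Finite (MulAut (U hF)) := Finite.of_injective (fun ψ => (ψ : U hF → U hF)) DFunLike.coe_injective
  haveI : Finite A := Finite.of_equiv _ φ.symm.toEquiv
  set π := (act hF hn).comp φ.toMonoidHom with hπ
  have hmem : ∀ x, x ∈ π.ker ↔ φ x ∈ (act hF hn).ker := fun x => Iff.rfl
  obtain ⟨hcomm, hsq⟩ := ker_elementary hF hn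
  have hK2 : ∀ x ∈ π.ker, x ^ 2 = 1 := fun x hx => φ.injective (by
    rw [map_pow, hsq _ ((hmem x).mp hx), map_one])
  have hKc : ∀ x ∈ π.ker, ∀ y ∈ π.ker, x * y = y * x := fun x hx y hy => φ.injective (by
    rw [map_mul, map_mul, hcomm _ ((hmem x).mp hx) _ ((hmem y).mp hy)])
  have hKcard : Nat.card π.ker = 2 ^ (2 * n ^ 2) := by
    rw [← card_addHom hF, ← card_ker hF hn]
    exact Nat.card_congr
      { toFun := fun x => ⟨φ x, (hmem x).mp x.2⟩
        invFun := fun y => ⟨φ.symm y, (hmem _).mpr (by simp [y.2, MonoidHom.mem_ker.mp y.2])⟩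
        left_inv := fun x => Subtype.ext (φ.symm_apply_apply _)
        right_inv := fun y => Subtype.ext (φ.apply_symm_apply _) }
  have hrange : π.range = (act hF hn).range := by
    rw [hπ, MonoidHom.range_comp, MonoidHom.range_eq_top.mpr φ.surjective, MonoidHom.range_eq_map]
  -- normal 2-subgroups act trivially on the first coordinate
  have hcore : ∀ N : Subgroup A, N.Normal → IsPGroup 2 N → N ≤ π.ker := by
    intro N hN hN2 x hx
    have hx' : π x ∈ Set.range (semiPerm (F := F)) := by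
      rw [← range_act hF hn]; exact ⟨φ x, rfl⟩
    obtain ⟨⟨a, s⟩, hs⟩ := hx'
    have hodd : ∀ b : Fˣ, ∀ k : ℕ, b ^ 2 ^ k = 1 → b = 1 := by
      intro b k hb
      have hcop : (Nat.card Fˣ).Coprime (2 ^ k) := by
        rw [Nat.card_units, Nat.card_eq_fintype_card, hF]
        refine Nat.Coprime.pow_right _ (Nat.coprime_two_right.mpr ?_)
        refine Nat.Even.sub_odd (Nat.one_le_pow _ _ (by positivity)) ?_ odd_one
        exact Nat.even_pow.mpr ⟨Nat.even_pow.mpr ⟨even_two, by omega⟩, two_ne_zero⟩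
      exact (Nat.Coprime.pow_left_bijective hcop).1 (hb.trans (one_pow _).symm)
    have hmulpow : ∀ (b : Fˣ) (k : ℕ) (y : F), ((semiPerm (b, RingEquiv.refl F)) ^ k) y = (b : F) ^ k * y := by
      intro b k
      induction k with
      | zero => simp
      | succ k ih =>
        intro y
        rw [pow_succ, Equiv.Perm.mul_apply, ih, semiPerm_apply, RingEquiv.refl_apply]
        ring
    have hscalar : ∀ (b : Fˣ) (y : A), y ∈ N → π y = semiPerm (b, RingEquiv.refl F) → b = 1 := by
      intro b y hy hyb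
      obtain ⟨k, hk⟩ := hN2 ⟨y, hy⟩
      refine hodd b k (Units.ext ?_)
      have h1 : π (y ^ 2 ^ k) = 1 := by
        rw [show y ^ 2 ^ k = 1 from congrArg Subtype.val hk, map_one]
      have h2 := Equiv.congr_fun (show π (y ^ 2 ^ k) = (semiPerm (b, RingEquiv.refl F)) ^ 2 ^ k by
        rw [map_pow, hyb]) 1
      rw [h1, hmulpow, mul_one] at h2
      simpa using h2.symm
    have hsid : ∀ b : Fˣ, s b = (b : F) := by
      intro b
      obtain ⟨ψ, hψ⟩ : ∃ ψ : A, π ψ = semiPerm (b, RingEquiv.refl F) := by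
        have h : semiPerm (b, RingEquiv.refl F) ∈ Set.range (act hF hn) := by
          rw [range_act hF hn]; exact ⟨_, rfl⟩
        obtain ⟨ψ, hψ⟩ := h
        exact ⟨φ.symm ψ, by simp [hπ, hψ]⟩
      set sb : Fˣ := Units.mk0 (s b) (by simp) with hsb
      have hcm : π (ψ * x * ψ⁻¹ * x⁻¹) = semiPerm (b * sb⁻¹, RingEquiv.refl F) := by
        have key : π ψ * π x = semiPerm (b * sb⁻¹, RingEquiv.refl F) * (π x * π ψ) := by
          refine Equiv.ext fun z => ?_
          simp only [Equiv.Perm.mul_apply, hψ, ← hs, semiPerm_apply, RingEquiv.refl_apply,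
            map_mul, Units.val_mul, Units.val_inv_eq_inv_val, hsb, Units.val_mk0]
          field_simp
        rw [map_mul, map_mul, map_mul, key, map_inv, map_inv]
        group
      have h1 := hscalar _ _ (N.mul_mem (hN.conj_mem x hx ψ) (N.inv_mem hx)) hcm
      rw [mul_inv_eq_one] at h1
      exact (congrArg Units.val h1).symm
    have hs1 : s = RingEquiv.refl F := RingEquiv.ext fun y => by
      by_cases hy : y = 0
      · simp [hy]
      · simpa using hsid (Units.mk0 y hy)
    subst hs1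
    have ha := hscalar a x hx hs.symm
    subst ha
    refine MonoidHom.mem_ker.mpr ?_
    rw [← hs]
    exact Equiv.ext fun y => by simp [semiPerm_apply]
  have hO : Cfsg.pCore 2 A = π.ker := by
    refine le_antisymm (sSup_le fun N hN => hcore N hN.1 hN.2) (le_sSup ⟨inferInstance, ?_⟩)
    exact IsPGroup.of_card hKcard
  refine ⟨?_, ?_, ?_⟩
  · rw [hO]
    exact ⟨⟨⟨fun x y => Subtype.ext (hKc x x.2 y y.2)⟩⟩, hK2⟩
  · rw [hO, hKcard]
  · rw [Subgroup.card_eq_card_quotient_mul_card_subgroup π.ker,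
      Nat.card_congr (QuotientGroup.quotientKerEquivRange π).toEquiv, hrange, card_range hF hn, hKcard,
      mul_comm]

end Cfsg.Agent.Lib.SuThreeAut
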